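import Groth.Agent.LechLib.Limit
import Groth.Agent.KoszChiLib.Bound
import Groth.Agent.KoszChiLib.Thms

/-!
# Samuel multiplicity as a Koszul Euler characteristic
-/

set_option autoImplicit false
set_option backward.isDefEq.respectTransparency false
set_option backward.isDefEq.respectTransparency.types false

universe u

open CategoryTheory Filter Topology Groth.Agent.KoszChiLib

namespace LechLib

variable {A : Type u} [CommRing A]

/-- `H⁰` of the Koszul complex is `M / (l) M`. -/
theorem exists_H_zero : ∀ (l : List A) (M : ModuleCat.{u} A),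
    ∃ π : M →ₗ[A] H l M 0, Function.Surjective π ∧ LinearMap.ker π = Idl l • (⊤ : Submodule A M)
  | [], M => ⟨(H_nil M).symm.toLinearMap, (H_nil M).symm.surjective, by
      rw [LinearEquiv.ker, Idl]
      simp⟩
  | x :: l, M => by
    obtain ⟨π, hπ, hker⟩ := exists_H_zero l M
    obtain ⟨g, h, h1, h2, -⟩ := five x l M 0
    haveI := H_eq_zero l M (0 + 1) (Or.inl (by norm_num))
    refine ⟨g ∘ₗ π, ?_, ?_⟩
    · intro y
      obtain ⟨w, hw⟩ := (h2 y).1 (Subsingleton.elim _ _)
      obtain ⟨v, rfl⟩ := hπ w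
      exact ⟨v, hw⟩
    · have hI : Idl (x :: l) = Ideal.span {x} ⊔ Idl l := by
        rw [Idl, Idl, ← Ideal.span_union]
        congr 1
        ext a
        simp
      rw [hI, Submodule.sup_smul, LinearMap.ker_comp, LinearMap.exact_iff.1 h1]
      refine le_antisymm (fun v hv => ?_) (sup_le ?_ ?_)
      · obtain ⟨w, hw⟩ := hv
        obtain ⟨u, rfl⟩ := hπ w
        have : v - x • u ∈ LinearMap.ker π := by
          rw [LinearMap.mem_ker, map_sub, map_smul, sub_eq_zero]
          exact hw.symm
        rw [hker] at this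
        rw [← add_sub_cancel (x • u) v]
        exact Submodule.add_mem_sup
          (Submodule.smul_mem_smul (Ideal.mem_span_singleton_self x) Submodule.mem_top) this
      · rw [Submodule.smul_le]
        intro r hr v _
        obtain ⟨s, rfl⟩ := Ideal.mem_span_singleton'.1 hr
        exact ⟨π (s • v), by simp [smul_smul, mul_comm]⟩
      · rw [← hker]
        intro v hv
        show π v ∈ LinearMap.range _
        rw [show π v = 0 from hv]
        exact zero_mem _

variable [IsLocalRing A] [IsNoetherianRing A]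

/-- The Euler characteristic is the limit of the normalized lengths. -/
theorem tendsto_chi (d : ℕ) (x : Fin d → A) (M : Type u) [AddCommGroup M] [Module A M] [Module.Finite A M]
    (hfl : IsFiniteLength A (M ⧸ (Ideal.span (Set.range x) • (⊤ : Submodule A M)))) :
    Tendsto (fun n : ℕ => (CommAlgDim.len A (M ⧸ (aI (fun i => x i ^ n) • (⊤ : Submodule A M))) : ℝ) / (n : ℝ) ^ d)
        atTop (𝓝 (chi (List.ofFn x) (ModuleCat.of A M) : ℝ)) := by
  classical
  have hFL := fl_of_finLen (Idl_ofFn x).symm hfl
  let N : ℕ → ℤ → ℤ := fun n i => ell A (H (List.ofFn fun j => x j ^ n) (ModuleCat.of A M) i)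
  have hN0 : ∀ n, N n 0 = (CommAlgDim.len A (M ⧸ (aI (fun i => x i ^ n) • (⊤ : Submodule A M))) : ℤ) := fun n => by
    obtain ⟨π, hπ, hker⟩ := exists_H_zero (List.ofFn fun j => x j ^ n) (ModuleCat.of A M)
    rw [Idl_ofFn] at hker
    show ((Module.length A (H _ _ 0)).toNat : ℤ) = _
    rw [← ((Submodule.quotEquivOfEq _ _ hker.symm).trans (LinearMap.quotKerEquivOfSurjective π hπ)).length_eq]
    rfl
  have hchi : ∀ n, chi (List.ofFn fun j => x j ^ n) (ModuleCat.of A M) =
      N n 0 + ∑ j ∈ Finset.range d, sgn (-((j : ℤ) + 1)) * N n (-((j : ℤ) + 1)) := fun n => by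
    rw [chi, finsum_eq_sum_of_support_subset (s := insert 0 ((Finset.range d).image fun j : ℕ => -((j : ℤ) + 1)))]
    · rw [Finset.sum_insert (by simp; intros; omega), Finset.sum_image (by intro a _ b _ h; simpa using h)]
      congr 1
      simp [sgn, N]
    · intro i hi
      have h : ¬ (i < -((List.ofFn fun j => x j ^ n).length : ℤ) ∨ 0 < i) := fun hh =>
        hi (mul_eq_zero_of_right _ (ell_H_zero _ _ _ hh))
      simp only [List.length_ofFn, not_or, not_lt] at h
      simp only [Finset.coe_insert, Finset.coe_image, Finset.coe_range, Set.mem_insert_iff, Set.mem_image,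
        Set.mem_Iio]
      rcases eq_or_ne i 0 with h0 | h0
      · exact Or.inl h0
      · exact Or.inr ⟨(-i - 1).toNat, by omega, by omega⟩
  have hterm : ∀ j ∈ Finset.range d,
      Tendsto (fun n : ℕ => (sgn (-((j : ℤ) + 1)) : ℝ) * ((N n (-((j : ℤ) + 1)) : ℝ) / (n : ℝ) ^ d)) atTop (𝓝 0) := by
    intro j hj
    rw [Finset.mem_range] at hj
    obtain ⟨c, hc⟩ := bound_codim d x (ModuleCat.of A M) hFL (j + 1)
    rw [← mul_zero ((sgn (-((j : ℤ) + 1))) : ℝ)]
    refine Tendsto.const_mul _ (squeeze_zero' (t₀ := atTop) ?_ ?_ (tendsto_const_div_atTop_nhds_zero_nat (c : ℝ)))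
    · exact Eventually.of_forall fun n => div_nonneg (Int.cast_nonneg (Int.natCast_nonneg _)) (by positivity)
    · filter_upwards [eventually_gt_atTop 0] with n hn
      have h := hc n hn
      have h' : N n (-((j : ℤ) + 1)) ≤ ((c * n ^ (d - (j + 1)) : ℕ) : ℤ) := by
        have := ENat.toNat_le_of_le_coe h
        show ((Module.length A (H _ _ _)).toNat : ℤ) ≤ _
        rw [Nat.cast_le]
        exact this
      have h'' : (N n (-((j : ℤ) + 1)) : ℝ) ≤ (c : ℝ) * (n : ℝ) ^ (d - (j + 1)) := by exact_mod_cast h'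
      rw [div_le_div_iff₀ (by positivity) (by positivity)]
      refine (mul_le_mul_of_nonneg_right h'' (Nat.cast_nonneg n)).trans ?_
      rw [mul_assoc, ← pow_succ]
      exact mul_le_mul_of_nonneg_left (pow_le_pow_right₀ (by exact_mod_cast hn) (by omega)) (Nat.cast_nonneg c)
  have hlim := tendsto_const_nhds (x := (chi (List.ofFn x) (ModuleCat.of A M) : ℝ)) (f := atTop (α := ℕ)) |>.sub
    (tendsto_finset_sum _ hterm)
  rw [Finset.sum_const_zero, sub_zero] at hlim
  refine hlim.congr' ?_
  filter_upwards [eventually_gt_atTop 0] with n hn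
  have h : ((chi (List.ofFn fun j => x j ^ n) (ModuleCat.of A M) : ℤ) : ℝ) =
      (n : ℝ) ^ d * (chi (List.ofFn x) (ModuleCat.of A M) : ℝ) := by
    rw [chi_pows d x (fun _ => n) _ hFL]
    simp
  rw [hchi, hN0] at h
  push_cast at h
  have hnd : (n : ℝ) ^ d ≠ 0 := by positivity
  simp only [← mul_div_assoc, ← Finset.sum_div]
  field_simp
  linarith

end LechLib
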