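import Groth.Agent.LechLib.Limit

/-!
# Additivity of normalized Hilbert–Samuel limits
-/

set_option autoImplicit false

universe u

open Filter Topology

namespace LechLib

variable {R : Type u} [CommRing R] {I : Ideal R}
  {N M Q : Type u} [AddCommGroup N] [Module R N] [AddCommGroup M] [Module R M] [AddCommGroup Q] [Module R Q]

theorem chi_le_add [IsNoetherianRing R] [Module.Finite R M] [Module.Finite R N]
    (f : N →ₗ[R] M) (g : M →ₗ[R] Q) (hg : Function.Surjective g) (H : Function.Exact f g)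
    (hN : Module.length R (N ⧸ I • (⊤ : Submodule R N)) ≠ ⊤)
    (hM : Module.length R (M ⧸ I • (⊤ : Submodule R M)) ≠ ⊤) (n : ℕ) :
    CommAlgDim.chi I M n ≤ CommAlgDim.chi I N n + CommAlgDim.chi I Q n := by
  let S : Submodule R M := I ^ n • ⊤
  have hgS : S.map g = I ^ n • ⊤ := by
    rw [Submodule.map_smul'', Submodule.map_top, LinearMap.range_eq_top.2 hg]
  have hf : I ^ n • (⊤ : Submodule R N) ≤ S.comap f := by
    rw [← Submodule.map_le_iff_le_comap, Submodule.map_smul'']
    exact Submodule.smul_mono le_rfl le_top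
  let i : N ⧸ I ^ n • (⊤ : Submodule R N) →ₗ[R] M ⧸ S := Submodule.mapQ _ _ f hf
  let p : M ⧸ S →ₗ[R] Q ⧸ I ^ n • (⊤ : Submodule R Q) :=
    Submodule.mapQ _ _ g (Submodule.map_le_iff_le_comap.1 hgS.le)
  have hp : Function.Surjective p := fun z => by
    obtain ⟨z, rfl⟩ := Submodule.mkQ_surjective _ z
    obtain ⟨m, rfl⟩ := hg z
    exact ⟨Submodule.Quotient.mk m, rfl⟩
  have hex : Function.Exact i p := by
    intro z
    obtain ⟨m, rfl⟩ := Submodule.mkQ_surjective _ z
    constructor
    · intro hm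
      obtain ⟨s, hs, hsm⟩ := hgS.ge ((Submodule.Quotient.mk_eq_zero _).1 hm)
      obtain ⟨x, hx⟩ := (H (m - s)).1 (by rw [map_sub, hsm, sub_self])
      exact ⟨Submodule.Quotient.mk x, (Submodule.Quotient.eq _).2 (by
        rw [hx]; simpa using neg_mem hs)⟩
    · rintro ⟨y, hy⟩
      obtain ⟨y, rfl⟩ := Submodule.mkQ_surjective _ y
      rw [← hy]
      show Submodule.Quotient.mk (g (f y)) = 0
      rw [H.apply_apply_eq_zero, Submodule.Quotient.mk_zero]
  show CommAlgDim.len R (M ⧸ S) ≤ _
  rw [CommAlgDim.len_add (CommAlgDim.length_quotient_ne_top hM n) (LinearMap.range i).subtype p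
    (Submodule.subtype_injective _) hp (by
      rw [LinearMap.exact_iff, Submodule.range_subtype]; exact hex.linearMap_ker_eq)]
  refine Nat.add_le_add_right ?_ _
  exact CommAlgDim.len_le_of_surjective (CommAlgDim.length_quotient_ne_top hN n) i.rangeRestrict
    i.surjective_rangeRestrict

/-- Normalized limits add up along short exact sequences. -/
theorem tendsto_chi_add [IsNoetherianRing R] [Module.Finite R M] [Module.Finite R N] (f : N →ₗ[R] M) (g : M →ₗ[R] Q)
    (hf : Function.Injective f) (hg : Function.Surjective g) (H : Function.Exact f g)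
    (hN : Module.length R (N ⧸ I • (⊤ : Submodule R N)) ≠ ⊤)
    (hM : Module.length R (M ⧸ I • (⊤ : Submodule R M)) ≠ ⊤) (C : ℝ) (hC : 0 ≤ C) (d : ℕ) (a b : ℝ)
    (ha : Tendsto (fun n : ℕ => C * (CommAlgDim.chi I N n : ℝ) / (n : ℝ) ^ d) atTop (𝓝 a))
    (hb : Tendsto (fun n : ℕ => C * (CommAlgDim.chi I Q n : ℝ) / (n : ℝ) ^ d) atTop (𝓝 b)) :
    Tendsto (fun n : ℕ => C * (CommAlgDim.chi I M n : ℝ) / (n : ℝ) ^ d) atTop (𝓝 (a + b)) := by
  obtain ⟨c, hc⟩ := CommAlgDim.exists_chi_add_le f g hf hg H hM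
  have ha' : Tendsto (fun n : ℕ => C * (CommAlgDim.chi I N (n - c) : ℝ) / (n : ℝ) ^ d) atTop (𝓝 a) := by
    have h := (ha.comp (tendsto_sub_atTop_nat c)).mul ((tendsto_natSub_div c).pow d)
    rw [one_pow, mul_one] at h
    refine h.congr' ?_
    filter_upwards [eventually_gt_atTop c] with n hn
    have : ((n - c : ℕ) : ℝ) ≠ 0 := by exact_mod_cast (by omega : n - c ≠ 0)
    simp only [Function.comp_apply, div_pow]
    field_simp
  refine tendsto_of_tendsto_of_tendsto_of_le_of_le' (ha'.add hb) (ha.add hb) ?_ ?_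
  · filter_upwards [eventually_ge_atTop c] with n hn
    rw [← add_div, ← mul_add]
    gcongr
    exact_mod_cast hc n hn
  · filter_upwards with n
    rw [← add_div, ← mul_add]
    gcongr
    exact_mod_cast chi_le_add f g hg H hN hM n

end LechLib
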