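import Groth.Agent.LechLib.Saturate

/-!
# Boxes in the staircase are asymptotically bounded by the multiplicity
-/

set_option autoImplicit false

universe u v

open Finset Filter Topology

namespace LechLib

variable {R : Type u} [CommRing R] {M : Type v} [AddCommGroup M] [Module R M] {d : ℕ} (x : Fin d → R)

/-- The cube `[0, n)^d`. -/
abbrev Box (d n : ℕ) : Finset (Fin d → ℕ) := Fintype.piFinset fun _ => Finset.range n

/-- The free coordinates of a pattern. -/
abbrev Jset (C : ℕ) (γ : Fin d → ℕ) : Finset (Fin d) := Finset.univ.filter fun j => γ j = C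

/-- Truncation of exponents at `C`. -/
abbrev trunc (C : ℕ) (β : Fin d → ℕ) : Fin d → ℕ := fun j => min (β j) C

theorem V_monotone : Monotone (V x (⊥ : Submodule R M)) := fun α β h => by
  rw [show β = α + (β - α) from funext fun j => (Nat.add_sub_cancel' (h j)).symm]
  exact V_le_add x α _

variable [IsNoetherianRing R] [Module.Finite R M]

theorem exists_trunc : ∃ C : ℕ, ∀ β : Fin d → ℕ,
    g x (⊥ : Submodule R M) β = g x (⊥ : Submodule R M) (trunc C β) := by
  obtain ⟨C, hC⟩ := exists_saturate (V x (⊥ : Submodule R M)) (V_monotone x)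
  exact ⟨C, fun β => by
    show CommAlgDim.len R (M ⧸ _) = CommAlgDim.len R (M ⧸ _)
    rw [hC β]⟩

variable (h1 : Module.length R (M ⧸ aI x • (⊤ : Submodule R M)) ≠ ⊤)

omit [IsNoetherianRing R] [Module.Finite R M] in
theorem sum_box_le {C : ℕ} (hC : ∀ β, g x (⊥ : Submodule R M) β = g x (⊥ : Submodule R M) (trunc C β)) (n : ℕ) :
    ∑ β ∈ Box d n, g x (⊥ : Submodule R M) β ≤
      ∑ γ ∈ Box d (C + 1), g x (⊥ : Submodule R M) γ * n ^ (Jset C γ).card := by
  classical
  rw [← Finset.sum_fiberwise_of_maps_to (t := Box d (C + 1)) (g := trunc C) fun β _ => by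
    simp [Fintype.mem_piFinset]]
  refine Finset.sum_le_sum fun γ _ => ?_
  rw [Finset.sum_congr rfl (g := fun _ => g x (⊥ : Submodule R M) γ) fun β hβ => by
    rw [hC β, (Finset.mem_filter.1 hβ).2], Finset.sum_const, smul_eq_mul, mul_comm]
  refine Nat.mul_le_mul_left _ ?_
  refine (Finset.card_le_card (t := Fintype.piFinset fun j => if γ j = C then Finset.range n else {γ j})
    fun β hβ => ?_).trans (le_of_eq ?_)
  · obtain ⟨h, h'⟩ := Finset.mem_filter.1 hβ
    simp only [Fintype.mem_piFinset, Finset.mem_range] at h ⊢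
    intro j
    split_ifs with hj
    · simpa using h j
    · have : min (β j) C = γ j := congrFun h' j
      simp only [Finset.mem_singleton]
      omega
  · rw [Fintype.card_piFinset, ← Finset.prod_const, Finset.prod_filter]
    refine Finset.prod_congr rfl fun j _ => ?_
    split_ifs <;> simp

omit [IsNoetherianRing R] [Module.Finite R M] in
theorem sum_sim_ge {C : ℕ} (hC : ∀ β, g x (⊥ : Submodule R M) β = g x (⊥ : Submodule R M) (trunc C β)) (m : ℕ) :
    ∑ γ ∈ Box d (C + 1), g x (⊥ : Submodule R M) γ * (Sim (Jset C γ).card (m - ∑ j, γ j)).card ≤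
      ∑ β ∈ Sim d m, g x (⊥ : Submodule R M) β := by
  classical
  rw [← Finset.sum_fiberwise_of_maps_to (s := Sim d m) (t := Box d (C + 1)) (g := trunc C) fun β _ => by
    simp [Fintype.mem_piFinset]]
  refine Finset.sum_le_sum fun γ hγ => ?_
  conv_rhs => rw [Finset.sum_congr rfl (g := fun _ => g x (⊥ : Submodule R M) γ) fun β hβ => by
    rw [hC β, (Finset.mem_filter.1 hβ).2], Finset.sum_const, smul_eq_mul, mul_comm]
  refine Nat.mul_le_mul_left _ ?_
  let J := Jset C γ
  let e := J.equivFin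
  refine Finset.card_le_card_of_injOn (fun δ j => γ j + if h : j ∈ J then δ (e ⟨j, h⟩) else 0) (fun δ hδ => ?_) ?_
  · simp only [Finset.mem_coe] at hδ ⊢
    rw [mem_Sim] at hδ
    refine Finset.mem_filter.2 ⟨?_, funext fun j => ?_⟩
    · rw [mem_Sim, Finset.sum_add_distrib]
      have : ∑ j, (if h : j ∈ J then δ (e ⟨j, h⟩) else 0) = ∑ i, δ i := by
        rw [← Finset.sum_subset (Finset.subset_univ J) (fun j _ hj => dif_neg hj), ← Finset.sum_coe_sort J]
        exact Fintype.sum_equiv e _ _ fun j => by simp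
      omega
    · have hle : γ j < C + 1 := Finset.mem_range.1 (Fintype.mem_piFinset.1 hγ j)
      show min (γ j + _) C = γ j
      by_cases hj : j ∈ J
      · have : γ j = C := (Finset.mem_filter.1 hj).2
        rw [dif_pos hj]; omega
      · rw [dif_neg hj]; omega
  · intro δ _ δ' _ h
    funext i
    have := congrFun h (e.symm i : Fin d)
    simp only [(e.symm i).2, dif_pos, Subtype.coe_eta, Equiv.apply_symm_apply] at this
    omega

include h1 in
/-- The boxes are bounded by the multiplicity. -/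
theorem exists_box_bound (r : ℕ) (e : ℝ)
    (he : Tendsto (fun n : ℕ => (r.factorial : ℝ) * (CommAlgDim.len R (M ⧸ (aI x ^ n • (⊤ : Submodule R M))) : ℝ) / (n : ℝ) ^ r)
      atTop (𝓝 e)) :
    ∃ u : ℕ → ℝ, ∃ E ≤ e, Tendsto u atTop (𝓝 E) ∧
      ∀ n : ℕ, 0 < n → (∑ β ∈ Box d n, (g x (⊥ : Submodule R M) β : ℝ)) / (n : ℝ) ^ r ≤ u n := by
  classical
  obtain ⟨C, hC⟩ := exists_trunc (M := M) x
  let G' : (Fin d → ℕ) → ℝ := fun γ => g x (⊥ : Submodule R M) γ
  let k : (Fin d → ℕ) → ℕ := fun γ => (Jset C γ).card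
  have hlen : ∀ m, CommAlgDim.len R (M ⧸ aI x ^ m • (⊤ : Submodule R M)) =
      ∑ β ∈ Sim d m, g x (⊥ : Submodule R M) β := fun m => by
    have h := len_eq_sum x h1 ⊥ m
    rwa [sup_bot_eq] at h
  have hG : ∀ γ, 0 ≤ G' γ := fun γ => Nat.cast_nonneg _
  have hr : (0 : ℝ) < r.factorial := by exact_mod_cast r.factorial_pos
  have hsum : ∀ m : ℕ, ∑ γ ∈ Box d (C + 1), G' γ * ((Sim (k γ) (m - ∑ j, γ j)).card : ℝ) ≤
      (CommAlgDim.len R (M ⧸ aI x ^ m • (⊤ : Submodule R M)) : ℝ) := fun m => by
    rw [hlen]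
    have := sum_sim_ge x hC m
    simp only [G', k]
    exact_mod_cast this
  -- patterns of too large dimension do not occur
  have hzero : ∀ γ ∈ Box d (C + 1), r < k γ → G' γ = 0 := fun γ hγ hk => by
    refine le_antisymm ?_ (hG γ)
    have hl := (tendsto_card_Sim_sub (k γ) (∑ j, γ j)).const_mul (G' γ * r.factorial)
    have hu : Tendsto (fun m : ℕ => (r.factorial : ℝ) *
        (CommAlgDim.len R (M ⧸ (aI x ^ m • (⊤ : Submodule R M))) : ℝ) / (m : ℝ) ^ r * ((m : ℝ) ^ r / (m : ℝ) ^ k γ))
        atTop (𝓝 0) := by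
      have := he.mul ((tendsto_pow_div_pow_atTop_zero (𝕜 := ℝ) hk).comp tendsto_natCast_atTop_atTop)
      simpa using this
    have h := le_of_tendsto_of_tendsto hl hu (by
      filter_upwards [eventually_gt_atTop 0] with m hm
      have hm' : (0 : ℝ) < m := by exact_mod_cast hm
      rw [← mul_div_assoc, div_mul_div_comm, mul_comm ((m : ℝ) ^ r) ((m : ℝ) ^ k γ),
        mul_div_mul_right _ _ (pow_pos hm' r).ne', mul_comm (G' γ), mul_assoc]
      gcongr
      exact (Finset.single_le_sum (f := fun γ => G' γ * ((Sim (k γ) (m - ∑ j, γ j)).card : ℝ))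
        (fun _ _ => mul_nonneg (hG _) (Nat.cast_nonneg _)) hγ).trans (hsum m))
    have hpos : (0 : ℝ) < (r.factorial : ℝ) * (1 / ((k γ).factorial : ℝ)) := by positivity
    nlinarith
  let E := ∑ γ ∈ Box d (C + 1), if k γ = r then G' γ else 0
  refine ⟨fun n => ∑ γ ∈ Box d (C + 1), G' γ * ((n : ℝ) ^ k γ / (n : ℝ) ^ r), E, ?_, ?_, fun n hn => ?_⟩
  · have hl : Tendsto (fun m : ℕ => ∑ γ ∈ Box d (C + 1),
        (if k γ = r then G' γ else 0) * ((r.factorial : ℝ) * (((Sim r (m - ∑ j, γ j)).card : ℝ) / (m : ℝ) ^ r)))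
        atTop (𝓝 (∑ γ ∈ Box d (C + 1), (if k γ = r then G' γ else 0) * ((r.factorial : ℝ) * (1 / (r.factorial : ℝ))))) :=
      tendsto_finset_sum _ fun γ _ => ((tendsto_card_Sim_sub r _).const_mul _).const_mul _
    simp only [mul_one_div_cancel hr.ne', mul_one] at hl
    refine le_of_tendsto_of_tendsto' hl he fun m => ?_
    rw [mul_div_assoc]
    refine le_trans (le_of_eq ?_) (mul_le_mul_of_nonneg_left (div_le_div_of_nonneg_right
      ((Finset.sum_le_sum (s := Box d (C + 1))
        (f := fun γ => (if k γ = r then G' γ else 0) * ((Sim r (m - ∑ j, γ j)).card : ℝ))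
        fun γ _ => ?_).trans (hsum m)) (by positivity)) hr.le)
    · rw [Finset.sum_div, Finset.mul_sum]
      exact Finset.sum_congr rfl fun γ _ => by ring
    · split_ifs with h
      · rw [h]
      · rw [zero_mul]; exact mul_nonneg (hG γ) (Nat.cast_nonneg _)
  · refine tendsto_finset_sum _ fun γ hγ => ?_
    rcases lt_trichotomy (k γ) r with h | h | h
    · rw [if_neg h.ne]
      have := ((tendsto_pow_div_pow_atTop_zero (𝕜 := ℝ) h).comp tendsto_natCast_atTop_atTop).const_mul (G' γ)
      simpa using this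
    · rw [if_pos h]
      refine tendsto_const_nhds.congr' ?_
      filter_upwards [eventually_gt_atTop 0] with n hn
      rw [h, div_self (pow_ne_zero _ (by exact_mod_cast hn.ne')), mul_one]
    · rw [if_neg h.ne', hzero γ hγ h]
      simp
  · simp only [← mul_div_assoc, ← Finset.sum_div]
    gcongr
    have := sum_box_le x hC n
    simp only [G', k]
    exact_mod_cast this

end LechLib
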