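import Groth.Agent.LechLib.Box
import Mathlib.RingTheory.LocalRing.MaximalIdeal.Basic

/-!
# Lech's inequality
-/

set_option autoImplicit false

universe u

open Finset Filter Topology

namespace LechLib

variable {R : Type u} [CommRing R] {d : ℕ} (x : Fin d → R)

/-- The terms of higher order than `x ^ α`. -/
noncomputable def Hs (α : Fin d → ℕ) : Ideal R := aI x ^ (∑ j, α j + 1) ⊔ Ideal.span (xp x '' G α)

theorem W_eq (J : Ideal R) (α : Fin d → ℕ) : W x (J : Submodule R R) (G α) (∑ j, α j) = Hs x α ⊔ J := by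
  simp only [W, smul_eq_mul, Ideal.mul_top, Hs, sup_assoc, sup_comm, sup_left_comm]

theorem xp_mul_Hs (α γ : Fin d → ℕ) {h : R} (hh : h ∈ Hs x α) : xp x γ * h ∈ Hs x (α + γ) := by
  obtain ⟨a, ha, b, hb, rfl⟩ := Submodule.mem_sup.1 hh
  rw [mul_add]
  refine Submodule.add_mem_sup ?_ ?_
  · rw [show ∑ j, (α + γ) j + 1 = ∑ j, γ j + (∑ j, α j + 1) by simp [Finset.sum_add_distrib]; ring, pow_add]
    exact Ideal.mul_mem_mul (xp_mem x γ) ha
  · clear hh
    induction hb using Submodule.span_induction with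
    | mem y hy =>
      obtain ⟨β, hβ, rfl⟩ := hy
      obtain ⟨h1, l, h2, h3⟩ := mem_G.1 hβ
      refine Ideal.subset_span ⟨β + γ, mem_G.2 ⟨by simp [Finset.sum_add_distrib, h1],
        l, fun j hj => ?_, ?_⟩, by rw [xp_add, mul_comm]⟩
      · show α j + γ j = β j + γ j
        rw [show α j = β j from h2 j hj]
      · show α l + γ l < β l + γ l
        exact Nat.add_lt_add_right h3 _
    | zero => rw [mul_zero]; exact zero_mem _
    | add a b _ _ ha hb => rw [mul_add]; exact add_mem ha hb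
    | smul t a _ ha => rw [smul_eq_mul, mul_left_comm]; exact Ideal.mul_mem_left _ _ ha

theorem Hs_le (α : Fin d → ℕ) : Hs x α ≤ aI x ^ ∑ j, α j := by
  refine sup_le (Ideal.pow_le_pow_right (Nat.le_succ _)) (Ideal.span_le.2 ?_)
  rintro _ ⟨β, hβ, rfl⟩
  rw [← (mem_G.1 hβ).1]
  exact xp_mem x β

theorem Hs_mul_Hs (α γ : Fin d → ℕ) {h h' : R} (hh : h ∈ Hs x α) (hh' : h' ∈ Hs x γ) :
    h * h' ∈ Hs x (α + γ) := by
  obtain ⟨a, ha, b, hb, rfl⟩ := Submodule.mem_sup.1 hh'
  rw [mul_add]
  refine add_mem (Submodule.mem_sup_left ?_) ?_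
  · rw [show ∑ j, (α + γ) j + 1 = ∑ j, α j + (∑ j, γ j + 1) by simp [Finset.sum_add_distrib]; ring, pow_add]
    exact Ideal.mul_mem_mul (Hs_le x α hh) ha
  · clear hh'
    induction hb using Submodule.span_induction with
    | mem y hy =>
      obtain ⟨β, hβ, rfl⟩ := hy
      obtain ⟨h1, l, h2, h3⟩ := mem_G.1 hβ
      rw [mul_comm]
      obtain ⟨a', ha', b', hb', hab⟩ := Submodule.mem_sup.1 (xp_mul_Hs x α β hh)
      rw [← hab]
      refine Submodule.add_mem_sup ?_ ?_
      · simpa [Finset.sum_add_distrib, h1] using ha'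
      · refine Ideal.span_mono (Set.image_mono fun ε hε => ?_) hb'
        obtain ⟨e1, e2⟩ := mem_G.1 hε
        refine mem_G.2 ⟨by simpa [Finset.sum_add_distrib, h1] using e1, lt_trans ?_ e2⟩
        refine ⟨l, fun j hj => ?_, ?_⟩
        · show α j + γ j = α j + β j
          rw [show γ j = β j from h2 j hj]
        · show α l + γ l < α l + β l
          exact Nat.add_lt_add_left h3 _
    | zero => rw [mul_zero]; exact zero_mem _
    | add a b _ _ ha hb => rw [mul_add]; exact add_mem ha hb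
    | smul t a _ ha => rw [smul_eq_mul, mul_left_comm]; exact Ideal.mul_mem_left _ _ ha

theorem pow_lead {I : Ideal R} {α : Fin d → ℕ} (h : xp x α ∈ Hs x α ⊔ I) :
    ∀ n : ℕ, 0 < n → xp x (n • α) ∈ Hs x (n • α) ⊔ I ^ n
  | 1, _ => by simpa using h
  | n + 2, _ => by
    obtain ⟨a, ha, i, hi, hai⟩ := Submodule.mem_sup.1 h
    obtain ⟨b, hb, j, hj, hbj⟩ := Submodule.mem_sup.1 (pow_lead h (n + 1) (Nat.succ_pos _))
    rw [succ_nsmul]
    refine Submodule.mem_sup.2 ⟨xp x ((n + 1) • α) * a + xp x α * b - b * a, ?_, j * i, ?_, ?_⟩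
    · refine sub_mem (add_mem ?_ ?_) (Hs_mul_Hs x _ _ hb ha)
      · rw [add_comm ((n + 1) • α)]; exact xp_mul_Hs x α _ ha
      · exact xp_mul_Hs x _ α hb
    · rw [pow_succ]; exact Ideal.mul_mem_mul hj hi
    · rw [xp_add, eq_sub_of_add_eq' hai, eq_sub_of_add_eq' hbj]; ring

variable [IsNoetherianRing R] (h1 : Module.length R (R ⧸ aI x • (⊤ : Submodule R R)) ≠ ⊤)

include h1 in
theorem g_ne_zero_of_lead {J : Ideal R} {α : Fin d → ℕ} (h : g x (J : Submodule R R) α = 0) :
    xp x α ∈ Hs x α ⊔ J := by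
  have hf := len_ne_top x h1 (m := 1) (N := V x (J : Submodule R R) α) (by rw [pow_one]; exact aI_smul_le_V x _ α)
  have h0 : Module.length R (R ⧸ V x (J : Submodule R R) α) = 0 := by
    rw [← CommAlgDim.coe_len hf]
    exact_mod_cast h
  have hV : V x (J : Submodule R R) α = ⊤ :=
    Submodule.Quotient.subsingleton_iff.1 (Module.length_eq_zero_iff.1 h0)
  have h1' : (1 : R) ∈ V x (J : Submodule R R) α := hV ▸ Submodule.mem_top
  have h2 : xp x α • (1 : R) ∈ W x (J : Submodule R R) (G α) (∑ j, α j) := h1'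
  rwa [W_eq, smul_eq_mul, mul_one] at h2

include h1 in
theorem g_eq_zero_of_lead {I : Ideal R} {α δ : Fin d → ℕ} {n : ℕ} (hn : 0 < n)
    (h : g x (I : Submodule R R) α = 0) : g x ((I ^ n : Ideal R) : Submodule R R) (n • α + δ) = 0 := by
  have : Subsingleton (R ⧸ V x ((I ^ n : Ideal R) : Submodule R R) (n • α + δ)) := by
    refine Submodule.Quotient.subsingleton_iff.2 (eq_top_iff.2 fun v _ => ?_)
    show xp x (n • α + δ) • v ∈ W x _ _ _
    rw [W_eq, smul_eq_mul, xp_add]
    refine Ideal.mul_mem_right _ _ ?_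
    rw [mul_comm]
    obtain ⟨a, ha, i, hi, hai⟩ := Submodule.mem_sup.1 (pow_lead x (g_ne_zero_of_lead x h1 h) n hn)
    rw [← hai, mul_add]
    exact Submodule.add_mem_sup (xp_mul_Hs x _ δ ha) (Ideal.mul_mem_left _ _ hi)
  exact CommAlgDim.len_eq_zero

include h1 in
/-- The colength of a power is bounded by the colength times a box of the staircase. -/
theorem len_pow_le {I : Ideal R} {N : ℕ} (hN : aI x ^ N ≤ I) {n : ℕ} (hn : 0 < n) :
    CommAlgDim.len R (R ⧸ I ^ n) ≤
      CommAlgDim.len R (R ⧸ I) * ∑ δ ∈ Box d n, g x (⊥ : Submodule R R) δ := by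
  classical
  have hJ : ∀ (J : Ideal R) (m : ℕ), aI x ^ m ≤ J →
      CommAlgDim.len R (R ⧸ J) = ∑ α ∈ Sim d m, g x (J : Submodule R R) α := fun J m hm => by
    rw [← len_eq_sum x h1, sup_eq_right.2 (by rw [smul_eq_mul, Ideal.mul_top]; exact hm)]
  let S := (Sim d N).filter fun α => g x (I : Submodule R R) α ≠ 0
  have hS : S.card ≤ CommAlgDim.len R (R ⧸ I) := by
    rw [hJ I N hN, Finset.card_eq_sum_ones]
    refine (Finset.sum_le_sum fun α hα => ?_).trans (Finset.sum_le_sum_of_subset (Finset.filter_subset _ _))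
    exact Nat.one_le_iff_ne_zero.2 (Finset.mem_filter.1 hα).2
  have hmem : aI x ^ (N * n) ≤ I ^ n := by rw [pow_mul]; exact Ideal.pow_right_mono hN n
  rw [hJ _ _ hmem]
  calc ∑ β ∈ Sim d (N * n), g x ((I ^ n : Ideal R) : Submodule R R) β
      ≤ ∑ β ∈ (S ×ˢ Box d n).image (fun p => n • p.1 + p.2), g x ((I ^ n : Ideal R) : Submodule R R) β := by
        refine Finset.sum_le_sum_of_ne_zero fun β hβ hne => ?_
        refine Finset.mem_image.2 ⟨(fun j => β j / n, fun j => β j % n), Finset.mem_product.2 ⟨?_, ?_⟩, ?_⟩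
        · have hdecomp : n • (fun j => β j / n) + (fun j => β j % n) = β :=
            funext fun j => by simpa using Nat.div_add_mod (β j) n
          refine Finset.mem_filter.2 ⟨?_, fun h0 => hne ?_⟩
          · rw [mem_Sim] at hβ ⊢
            by_contra hcon
            push Not at hcon
            change N ≤ ∑ j, β j / n at hcon
            have h4 : ∑ j, n * (β j / n) ≤ ∑ j, β j := Finset.sum_le_sum fun j _ => Nat.mul_div_le _ _
            rw [← Finset.mul_sum] at h4
            have h5 := Nat.mul_le_mul_left n hcon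
            have h6 := mul_comm N n
            omega
          · rw [← hdecomp]; exact g_eq_zero_of_lead x h1 hn h0
        · simp only [Fintype.mem_piFinset, Finset.mem_range]
          exact fun j => Nat.mod_lt _ hn
        · funext j; simpa using Nat.div_add_mod (β j) n
    _ ≤ ∑ p ∈ S ×ˢ Box d n, g x ((I ^ n : Ideal R) : Submodule R R) (n • p.1 + p.2) :=
        Finset.sum_image_le_of_nonneg fun _ _ => Nat.zero_le _
    _ ≤ ∑ p ∈ S ×ˢ Box d n, g x (⊥ : Submodule R R) p.2 := Finset.sum_le_sum fun p _ => by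
        refine (g_mono x h1 bot_le _).trans ?_
        refine CommAlgDim.len_le_of_surjective
          (len_ne_top x h1 (m := 1) (by rw [pow_one]; exact aI_smul_le_V x _ _))
          (Submodule.factor (V_monotone x (le_add_left le_rfl))) (Submodule.factor_surjective _)
    _ = S.card * ∑ δ ∈ Box d n, g x (⊥ : Submodule R R) δ := by
        rw [Finset.sum_product]
        show ∑ _α ∈ S, ∑ δ ∈ Box d n, g x (⊥ : Submodule R R) δ = _
        rw [Finset.sum_const, smul_eq_mul]
    _ ≤ _ := Nat.mul_le_mul_right _ hS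

/-- Lech's inequality. -/
theorem lech_inequality [IsLocalRing R] (r : ℕ) (I : Ideal R)
    (hIN : ∃ N : ℕ, IsLocalRing.maximalIdeal R ^ N ≤ I) (eI eO : ℝ)
    (heI : Tendsto (fun n : ℕ => (r.factorial : ℝ) * ((Module.length R (R ⧸ I ^ n)).toNat : ℝ) / (n : ℝ) ^ r)
      atTop (𝓝 eI))
    (heO : Tendsto (fun n : ℕ => (r.factorial : ℝ) *
        ((Module.length R (R ⧸ IsLocalRing.maximalIdeal R ^ n)).toNat : ℝ) / (n : ℝ) ^ r) atTop (𝓝 eO)) :
    eI ≤ (r.factorial : ℝ) * eO * ((Module.length R (R ⧸ I)).toNat : ℝ) := by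
  obtain ⟨k, y, hy⟩ := Submodule.fg_iff_exists_fin_generating_family.1
    (IsNoetherian.noetherian (IsLocalRing.maximalIdeal R))
  obtain ⟨N, hN⟩ := hIN
  have hm : aI y = IsLocalRing.maximalIdeal R := hy
  have h1 : Module.length R (R ⧸ aI y • (⊤ : Submodule R R)) ≠ ⊤ := by
    rw [hm, ← IsLocalRing.ringJacobson_eq_maximalIdeal R]
    exact CommAlgDim.length_quotient_jacobson_ne_top
  obtain ⟨u, E, hE, hu, hbox⟩ := exists_box_bound y h1 r eO (heO.congr fun n => by
    rw [hm, show (IsLocalRing.maximalIdeal R ^ n • (⊤ : Submodule R R) : Submodule R R) =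
      IsLocalRing.maximalIdeal R ^ n from Ideal.mul_top _]
    rfl)
  set L : ℝ := ((Module.length R (R ⧸ I)).toNat : ℝ)
  have hle : eI ≤ (r.factorial : ℝ) * L * E := by
    refine le_of_tendsto_of_tendsto heI (hu.const_mul ((r.factorial : ℝ) * L)) ?_
    filter_upwards [eventually_gt_atTop 0] with n hn
    refine le_trans ?_ (mul_le_mul_of_nonneg_left (hbox n hn) (by positivity))
    rw [← mul_div_assoc, mul_assoc]
    gcongr
    have := len_pow_le y h1 (I := I) (N := N) (by rw [hm]; exact hN) hn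
    simp only [L]
    exact_mod_cast this
  refine hle.trans (le_of_le_of_eq (mul_le_mul_of_nonneg_left hE (by positivity)) ?_)
  ring

end LechLib
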