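import Groth.Agent.LechLib.Stair
import Mathlib.Algebra.Order.Antidiag.FinsuppEquiv
import Mathlib.Analysis.SpecificLimits.Basic

/-!
# Lech's limit formula
-/

set_option autoImplicit false

universe u v

open Finset Filter Topology

namespace LechLib

theorem card_D (d i : ℕ) : (D d i).card = d.multichoose i := by
  have h := Finset.card_finsuppAntidiag_nat_eq_multichoose (s := (Finset.univ : Finset (Fin d))) i
  rw [Finset.card_univ, Fintype.card_fin] at h
  rw [← h]
  refine Finset.card_bij' (fun f _ => Finsupp.equivFunOnFinite.symm f) (fun f _ => ⇑f) ?_ ?_ ?_ ?_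
  · intro f hf
    simp [Finset.mem_finsuppAntidiag] at hf ⊢
    exact hf
  · intro f hf
    simp [Finset.mem_finsuppAntidiag] at hf ⊢
    exact hf
  · intro f _; rfl
  · intro f _; ext; rfl

theorem card_Sim (d : ℕ) : ∀ m : ℕ, (Sim d (m + 1)).card = (m + d).choose d := fun m => by
  have h : (Sim d (m + 1)).card = (d + 1).multichoose m := by
    induction m with
    | zero =>
      rw [Finset.card_eq_sum_ones, sum_Sim]
      simp
    | succ m ih =>
      rw [Finset.card_eq_sum_ones, sum_Sim] at ih ⊢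
      rw [Finset.sum_range_succ, ih, ← Finset.card_eq_sum_ones, card_D, Nat.multichoose_succ_succ, add_comm]
  rw [h, Nat.multichoose_eq, show d + 1 + m - 1 = m + d by omega]
  exact Nat.choose_symm_add

theorem tendsto_natSub_div (C : ℕ) : Tendsto (fun m : ℕ => ((m - C : ℕ) : ℝ) / m) atTop (𝓝 1) := by
  have h : Tendsto (fun m : ℕ => 1 - (C : ℝ) / m) atTop (𝓝 1) := by
    simpa using tendsto_const_nhds.sub (tendsto_const_div_atTop_nhds_zero_nat (C : ℝ))
  refine h.congr' ?_
  filter_upwards [eventually_gt_atTop C] with m hm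
  rw [Nat.cast_sub hm.le, sub_div, div_self]
  exact_mod_cast (by omega : m ≠ 0)

theorem tendsto_card_Sim (d : ℕ) :
    Tendsto (fun m : ℕ => ((Sim d m).card : ℝ) / (m : ℝ) ^ d) atTop (𝓝 (1 / (d.factorial : ℝ))) := by
  have hd : (0 : ℝ) < d.factorial := by exact_mod_cast d.factorial_pos
  have hu : Tendsto (fun m : ℕ => (1 + (d : ℝ) / m) ^ d / (d.factorial : ℝ)) atTop (𝓝 (1 / (d.factorial : ℝ))) := by
    have := ((tendsto_const_nhds (x := (1 : ℝ))).add (tendsto_const_div_atTop_nhds_zero_nat (d : ℝ))).pow d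
    simpa using this.div_const _
  refine tendsto_of_tendsto_of_tendsto_of_le_of_le' tendsto_const_nhds hu ?_ ?_
  · filter_upwards [eventually_gt_atTop 0] with m hm
    obtain ⟨m, rfl⟩ := Nat.exists_eq_add_one.2 hm
    rw [card_Sim, div_le_div_iff₀ hd (by positivity), one_mul, mul_comm]
    exact_mod_cast (Nat.pow_succ_le_ascFactorial (m + 1) d).trans_eq (Nat.ascFactorial_eq_factorial_mul_choose m d)
  · filter_upwards [eventually_gt_atTop 0] with m hm
    obtain ⟨m, rfl⟩ := Nat.exists_eq_add_one.2 hm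
    rw [one_add_div (by positivity), div_pow, div_div, card_Sim, div_le_div_iff₀ (by positivity) (by positivity),
      ← mul_assoc, mul_right_comm]
    refine mul_le_mul_of_nonneg_right ?_ (by positivity)
    rw [mul_comm]
    have h := (Nat.ascFactorial_eq_factorial_mul_choose m d).symm.trans_le
      ((Nat.ascFactorial_le_pow_add m d).trans (Nat.pow_le_pow_left (by omega : m + d ≤ m + 1 + d) d))
    exact_mod_cast h

theorem tendsto_card_Sim_sub (d C : ℕ) :
    Tendsto (fun m : ℕ => ((Sim d (m - C)).card : ℝ) / (m : ℝ) ^ d) atTop (𝓝 (1 / (d.factorial : ℝ))) := by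
  have h := ((tendsto_card_Sim d).comp (tendsto_sub_atTop_nat C)).mul ((tendsto_natSub_div C).pow d)
  rw [one_pow, mul_one] at h
  refine h.congr' ?_
  filter_upwards [eventually_gt_atTop C] with m hm
  have : ((m - C : ℕ) : ℝ) ≠ 0 := by exact_mod_cast (by omega : m - C ≠ 0)
  simp only [Function.comp_apply, div_pow]
  field_simp

theorem pow_le_span_pow {R : Type u} [CommRing R] {d : ℕ} (x : Fin d → R) (n : ℕ) :
    aI x ^ (d * n + 1) ≤ aI (fun i => x i ^ n) := by
  rw [aI_pow, Ideal.span_le]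
  rintro _ ⟨α, hα, rfl⟩
  obtain ⟨j, hj⟩ : ∃ j, n ≤ α j := by
    by_contra hcon
    push Not at hcon
    have := Finset.sum_le_sum fun j (_ : j ∈ (Finset.univ : Finset (Fin d))) => (hcon j).le
    rw [(mem_piAntidiag.1 hα).1] at this
    simp at this
  rw [xp, ← Finset.mul_prod_erase _ _ (Finset.mem_univ j), ← Nat.sub_add_cancel hj, pow_add, mul_comm _ (x j ^ n),
    mul_assoc]
  exact Ideal.mul_mem_right _ _ (Ideal.subset_span ⟨j, rfl⟩)

variable {R : Type u} [CommRing R] {M : Type v} [AddCommGroup M] [Module R M] {d : ℕ} (x : Fin d → R)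
  [IsNoetherianRing R] [Module.Finite R M]
  (h1 : Module.length R (M ⧸ aI x • (⊤ : Submodule R M)) ≠ ⊤)

include h1 in
theorem pow_ideal_ne_top (n : ℕ) :
    Module.length R (M ⧸ aI (fun i => x i ^ n) • (⊤ : Submodule R M)) ≠ ⊤ :=
  len_ne_top x h1 (Submodule.smul_mono_left (pow_le_span_pow x n))

include h1 in
/-- Lech's limit formula. -/
theorem exists_limit : ∃ e : ℕ,
    Tendsto (fun n : ℕ => (CommAlgDim.len R (M ⧸ (aI x ^ n • (⊤ : Submodule R M))) : ℝ) / (n : ℝ) ^ d)
        atTop (𝓝 ((e : ℝ) / (d.factorial : ℝ))) ∧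
      Tendsto (fun n : ℕ => (CommAlgDim.len R (M ⧸ (aI (fun i => x i ^ n) • (⊤ : Submodule R M))) : ℝ) / (n : ℝ) ^ d)
        atTop (𝓝 (e : ℝ)) := by
  classical
  obtain ⟨_, ⟨c, rfl⟩, hc⟩ := set_has_maximal_iff_noetherian.2 (inferInstance : IsNoetherian R M)
    (Set.range (V x (⊥ : Submodule R M))) (Set.range_nonempty _)
  let e := g x (⊥ : Submodule R M) c
  let L := CommAlgDim.len R (M ⧸ aI x • (⊤ : Submodule R M))
  let C := ∑ j, c j
  have horth : ∀ γ, g x (⊥ : Submodule R M) (c + γ) = e := fun γ => by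
    have : V x (⊥ : Submodule R M) (c + γ) = V x ⊥ c :=
      ((V_le_add x c γ).eq_of_not_lt (hc _ ⟨_, rfl⟩)).symm
    show CommAlgDim.len R (M ⧸ _) = CommAlgDim.len R (M ⧸ _)
    rw [this]
  -- sums over a finite set
  have hlow : ∀ (S T : Finset (Fin d → ℕ)), (∀ γ ∈ T, c + γ ∈ S) → e * T.card ≤ ∑ α ∈ S, g x (⊥ : Submodule R M) α :=
    fun S T hST => by
    calc e * T.card = ∑ α ∈ T.map (addLeftEmbedding c), g x (⊥ : Submodule R M) α := by
          rw [Finset.sum_map]
          simp only [addLeftEmbedding_apply, horth]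
          simp [mul_comm]
      _ ≤ _ := Finset.sum_le_sum_of_subset fun α hα => by
          obtain ⟨γ, hγ, rfl⟩ := Finset.mem_map.1 hα
          exact hST γ hγ
  have hupp : ∀ (S T : Finset (Fin d → ℕ)), (∀ γ ∈ T, c + γ ∈ S) →
      (∑ α ∈ S, g x (⊥ : Submodule R M) α : ℝ) ≤ e * T.card + L * ((S.card : ℝ) - T.card) := fun S T hST => by
    have hsub : T.map (addLeftEmbedding c) ⊆ S := fun α hα => by
      obtain ⟨γ, hγ, rfl⟩ := Finset.mem_map.1 hα
      exact hST γ hγ
    rw [← Finset.sum_sdiff hsub, Finset.sum_map, add_comm]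
    refine add_le_add ?_ ?_
    · simp only [addLeftEmbedding_apply, horth]
      simp [mul_comm]
    · refine (Finset.sum_le_card_nsmul _ _ (L : ℝ) fun α _ => by exact_mod_cast g_le x h1 _ α).trans ?_
      rw [Finset.card_sdiff_of_subset hsub, Finset.card_map, nsmul_eq_mul,
        Nat.cast_sub ((Finset.card_map _).ge.trans (Finset.card_le_card hsub)), mul_comm]
  have hSim : ∀ m, ∀ γ ∈ Sim d (m - C), c + γ ∈ Sim d m := fun m γ hγ => by
    rw [mem_Sim] at hγ ⊢
    simp only [Pi.add_apply, Finset.sum_add_distrib]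
    omega
  have hA : ∀ m, CommAlgDim.len R (M ⧸ aI x ^ m • (⊤ : Submodule R M)) =
      ∑ α ∈ Sim d m, g x (⊥ : Submodule R M) α := fun m => by
    have h := len_eq_sum x h1 ⊥ m
    rwa [sup_bot_eq] at h
  have hd : (0 : ℝ) < d.factorial := by exact_mod_cast d.factorial_pos
  have hfirst : Tendsto (fun n : ℕ => (CommAlgDim.len R (M ⧸ (aI x ^ n • (⊤ : Submodule R M))) : ℝ) / (n : ℝ) ^ d)
      atTop (𝓝 ((e : ℝ) / (d.factorial : ℝ))) := by
    have hl := (tendsto_card_Sim_sub d C).const_mul (e : ℝ)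
    have hu := hl.add (((tendsto_card_Sim d).sub (tendsto_card_Sim_sub d C)).const_mul (L : ℝ))
    rw [mul_one_div] at hl hu
    rw [sub_self, mul_zero, add_zero] at hu
    refine tendsto_of_tendsto_of_tendsto_of_le_of_le hl hu (fun m => ?_) fun m => ?_
    · simp only [← mul_div_assoc, hA]
      gcongr
      exact_mod_cast hlow _ _ (hSim m)
    · simp only [← mul_div_assoc, ← sub_div, ← add_div, hA]
      gcongr
      exact_mod_cast hupp _ _ (hSim m)
  refine ⟨e, hfirst, ?_⟩
  -- boxes
  let Box : ℕ → Finset (Fin d → ℕ) := fun n => Fintype.piFinset fun _ => Finset.range n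
  have hBoxC : ∀ n, ∀ γ ∈ Box (n - C), c + γ ∈ Box n := fun n γ hγ => by
    simp only [Box, Fintype.mem_piFinset, Finset.mem_range, Pi.add_apply] at hγ ⊢
    intro j
    have : c j ≤ C := Finset.single_le_sum (fun l _ => Nat.zero_le (c l)) (Finset.mem_univ j)
    have := hγ j
    omega
  have hcard : ∀ n, (Box n).card = n ^ d := fun n => by simp [Box]
  have hupper : ∀ n, (CommAlgDim.len R (M ⧸ (aI (fun i => x i ^ n) • (⊤ : Submodule R M))) : ℝ) ≤
      e * ((n - C : ℕ) : ℝ) ^ d + L * ((n : ℝ) ^ d - ((n - C : ℕ) : ℝ) ^ d) := fun n => by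
    let T := aI (fun i => x i ^ n) • (⊤ : Submodule R M)
    have hT : aI x ^ (d * n + 1) • (⊤ : Submodule R M) ⊔ T = T :=
      sup_eq_right.2 (Submodule.smul_mono_left (pow_le_span_pow x n))
    have h := hupp (Box n) (Box (n - C)) (hBoxC n)
    rw [hcard, hcard] at h
    push_cast at h
    refine le_trans ?_ h
    rw [← Nat.cast_sum, Nat.cast_le]
    show CommAlgDim.len R (M ⧸ T) ≤ _
    rw [← hT, len_eq_sum x h1]
    refine le_trans ?_ (Finset.sum_le_sum_of_subset (s := (Sim d (d * n + 1)).filter (· ∈ Box n)) fun α hα =>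
      (Finset.mem_filter.1 hα).2)
    refine le_trans (le_of_eq (Finset.sum_filter_of_ne (p := (· ∈ Box n)) fun α _ hα => ?_).symm)
      (Finset.sum_le_sum fun α _ => g_mono x h1 bot_le α)
    by_contra hbox
    apply hα
    simp only [Box, Fintype.mem_piFinset, Finset.mem_range, not_forall, not_lt] at hbox
    obtain ⟨j, hj⟩ := hbox
    refine g_eq_zero x fun v => Submodule.smul_mem_smul ?_ trivial
    rw [xp, ← Finset.mul_prod_erase _ _ (Finset.mem_univ j), ← Nat.sub_add_cancel hj, pow_add, mul_comm _ (x j ^ n),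
      mul_assoc]
    exact Ideal.mul_mem_right _ _ (Ideal.subset_span ⟨j, rfl⟩)
  have hlower : ∀ n : ℕ, 0 < n → (e : ℝ) * (n : ℝ) ^ d ≤
      (CommAlgDim.len R (M ⧸ (aI (fun i => x i ^ n) • (⊤ : Submodule R M))) : ℝ) := fun n hn => by
    set B := CommAlgDim.len R (M ⧸ (aI (fun i => x i ^ n) • (⊤ : Submodule R M)))
    have hk : ∀ k, CommAlgDim.len R (M ⧸ (aI x ^ (n * k) • (⊤ : Submodule R M))) ≤ B * (Sim d k).card := fun k => by
      have hb := pow_ideal_ne_top x h1 n
      refine le_trans (CommAlgDim.len_le_of_surjective (CommAlgDim.length_quotient_ne_top hb k)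
        (Submodule.factor (Submodule.smul_mono_left ?_)) (Submodule.factor_surjective _)) ?_
      · rw [pow_mul]
        refine Ideal.pow_right_mono (Ideal.span_le.2 ?_) k
        rintro _ ⟨j, rfl⟩
        exact Ideal.pow_mem_pow (show x j ∈ aI x from Ideal.subset_span ⟨j, rfl⟩) n
      · have h := len_eq_sum (fun i => x i ^ n) hb (⊥ : Submodule R M) k
        rw [sup_bot_eq] at h
        rw [h]
        refine (Finset.sum_le_card_nsmul _ _ B fun α _ => g_le _ hb _ α).trans ?_
        rw [smul_eq_mul, mul_comm]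
    have ha := hfirst.comp (tendsto_id.const_mul_atTop' hn)
    have hb := (tendsto_card_Sim d).const_mul ((B : ℝ) / (n : ℝ) ^ d)
    have hle := le_of_tendsto_of_tendsto' ha hb fun k => by
      simp only [Function.comp_apply, id_eq, Nat.cast_mul, mul_pow, div_mul_div_comm]
      gcongr
      exact_mod_cast hk k
    rw [mul_one_div, div_le_div_iff_of_pos_right hd, le_div_iff₀ (by positivity)] at hle
    exact hle
  have hu : Tendsto (fun n : ℕ => (e : ℝ) * (((n - C : ℕ) : ℝ) / n) ^ d +
      L * (1 - (((n - C : ℕ) : ℝ) / n) ^ d)) atTop (𝓝 (e : ℝ)) := by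
    have h := (((tendsto_natSub_div C).pow d).const_mul (e : ℝ)).add
      ((((tendsto_natSub_div C).pow d).const_sub 1).const_mul (L : ℝ))
    simpa using h
  refine tendsto_of_tendsto_of_tendsto_of_le_of_le' tendsto_const_nhds hu ?_ ?_
  · filter_upwards [eventually_gt_atTop 0] with n hn
    rw [le_div_iff₀ (by positivity)]
    exact hlower n hn
  · filter_upwards [eventually_gt_atTop 0] with n hn
    rw [div_le_iff₀ (by positivity), div_pow]
    refine (hupper n).trans_eq ?_
    field_simp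

end LechLib
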