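import Groth.Agent.LechLib.Limit
import Mathlib.Order.Monotone.Basic

/-!
# Monotone maps from exponents to submodules
-/

set_option autoImplicit false

universe u v

open Finset

namespace LechLib

variable {R : Type u} [CommRing R] {M : Type v} [AddCommGroup M] [Module R M] [IsNoetherian R M] {d : ℕ}

/-- A monotone family is constant in the coordinates of `s` beyond some bound. -/
theorem exists_saturate_on (F : (Fin d → ℕ) → Submodule R M) (hF : Monotone F) (s : Finset (Fin d)) :
    ∀ f : Fin d → ℕ, ∃ C : ℕ, ∀ β : Fin d → ℕ, (∀ j, j ∉ s → β j = f j) →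
      ∀ C', C ≤ C' → F β = F (fun j => if j ∈ s then min (β j) C' else β j) := by
  classical
  induction s using Finset.strongInductionOn with
  | _ s ih =>
    intro f
    let P : Set (Fin d → ℕ) := {β | ∀ j, j ∉ s → β j = f j}
    obtain ⟨_, ⟨c, hcP, rfl⟩, hc⟩ := set_has_maximal_iff_noetherian.2 (inferInstance : IsNoetherian R M)
      (F '' P) ⟨F f, f, fun j _ => rfl, rfl⟩
    have htop : ∀ β ∈ P, (∀ j ∈ s, c j ≤ β j) → F β = F c := fun β hβ hle => by
      refine ((hF fun j => ?_).eq_of_not_lt (hc _ ⟨β, hβ, rfl⟩)).symm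
      by_cases hj : j ∈ s
      · exact hle j hj
      · rw [hβ j hj, hcP j hj]
    let K : ℕ := s.sup c
    choose Cs hCs using fun (p : Fin d × ℕ) (hp : p.1 ∈ s) =>
      ih (s.erase p.1) (Finset.erase_ssubset hp) (Function.update f p.1 p.2)
    let B : ℕ := (s.attach ×ˢ Finset.range K).sup fun p => Cs (p.1.1, p.2) p.1.2
    refine ⟨max K B, fun β hβ C' hC' => ?_⟩
    by_cases h : ∀ j ∈ s, c j ≤ β j
    · refine (htop β hβ h).trans (htop _ (fun j hj => ?_) fun j hj => ?_).symm
      · show (if j ∈ s then _ else β j) = f j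
        rw [if_neg hj]; exact hβ j hj
      show c j ≤ if j ∈ s then _ else β j
      rw [if_pos hj, le_min_iff]
      exact ⟨h j hj, (Finset.le_sup hj).trans ((le_max_left _ _).trans hC')⟩
    · push Not at h
      obtain ⟨j₀, hj₀, hlt⟩ := h
      have hK : β j₀ < K := lt_of_lt_of_le hlt (Finset.le_sup hj₀)
      have hCB : Cs (j₀, β j₀) hj₀ ≤ C' := le_trans (le_trans
        (Finset.le_sup (f := fun p : {x // x ∈ s} × ℕ => Cs (p.1.1, p.2) p.1.2)
          (b := (⟨j₀, hj₀⟩, β j₀)) (Finset.mem_product.2 ⟨Finset.mem_attach _ _, Finset.mem_range.2 hK⟩))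
        (le_max_right _ _)) hC'
      refine (hCs (j₀, β j₀) hj₀ β (fun j hj => ?_) C' hCB).trans (congrArg F (funext fun j => ?_))
      · rcases eq_or_ne j j₀ with rfl | hne
        · simp
        · rw [Function.update_of_ne hne]
          exact hβ j fun hjs => hj (Finset.mem_erase.2 ⟨hne, hjs⟩)
      · rcases eq_or_ne j j₀ with rfl | hne
        · rw [if_neg (by simp), if_pos hj₀, min_eq_left ((hK.le.trans (le_max_left _ _)).trans hC')]
        · simp [hne]

/-- A monotone family only depends on the exponents truncated at some bound. -/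
theorem exists_saturate (F : (Fin d → ℕ) → Submodule R M) (hF : Monotone F) :
    ∃ C : ℕ, ∀ β : Fin d → ℕ, F β = F (fun j => min (β j) C) := by
  obtain ⟨C, hC⟩ := exists_saturate_on F hF Finset.univ 0
  refine ⟨C, fun β => ?_⟩
  simpa using hC β (fun j hj => absurd (Finset.mem_univ j) hj) C le_rfl

end LechLib
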