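import Groth.Agent.MixedHSLib.Main
import Mathlib.Algebra.Order.Antidiag.Pi
import Mathlib.Order.PiLex
import Mathlib.Data.Finset.Max

/-!
# The staircase of a module with respect to a finite sequence
-/

set_option autoImplicit false

universe u v

open Finset

namespace LechLib

variable {R : Type u} [CommRing R] {M : Type v} [AddCommGroup M] [Module R M] {d : ℕ} (x : Fin d → R)

/-- The monomial `x ^ α`. -/
abbrev xp (α : Fin d → ℕ) : R := ∏ j, x j ^ α j

/-- Exponents of degree `i`. -/
abbrev D (d i : ℕ) : Finset (Fin d → ℕ) := Finset.piAntidiag Finset.univ i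

/-- The ideal generated by the sequence. -/
abbrev aI : Ideal R := Ideal.span (Set.range x)

theorem xp_add (α β : Fin d → ℕ) : xp x (α + β) = xp x α * xp x β := by
  rw [xp, xp, xp, ← Finset.prod_mul_distrib]
  exact Finset.prod_congr rfl fun j _ => pow_add _ _ _

theorem xp_mem (α : Fin d → ℕ) : xp x α ∈ aI x ^ ∑ j, α j := by
  rw [← Finset.prod_pow_eq_pow_sum]
  exact Ideal.prod_mem_prod fun j _ => Ideal.pow_mem_pow (show x j ∈ aI x from Ideal.subset_span ⟨j, rfl⟩) _

theorem aI_pow (i : ℕ) : aI x ^ i = Ideal.span (xp x '' (D d i)) := by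
  classical
  refine le_antisymm ?_ (Ideal.span_le.2 ?_)
  · induction i with
    | zero =>
      rw [pow_zero, Ideal.one_eq_top]
      refine le_of_eq ((Ideal.eq_top_iff_one _).2 ?_).symm
      refine Ideal.subset_span ⟨0, by simp, ?_⟩
      simp [xp]
    | succ i ih =>
      rw [pow_succ]
      refine (Ideal.mul_mono_left ih).trans ?_
      rw [Ideal.span_mul_span', Ideal.span_le]
      rintro _ ⟨_, ⟨α, hα, rfl⟩, _, ⟨j, rfl⟩, rfl⟩
      refine Ideal.subset_span ⟨α + Pi.single j 1, ?_, ?_⟩
      · simp [Finset.sum_add_distrib, (mem_piAntidiag.1 hα).1]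
      · rw [xp_add]
        congr 1
        rw [xp, Finset.prod_eq_single j (fun l _ hl => by simp [hl]) (by simp)]
        simp
  · rintro _ ⟨α, hα, rfl⟩
    rw [← (mem_piAntidiag.1 hα).1]
    exact xp_mem x α

/-- The staircase filtration step. -/
noncomputable def W (T : Submodule R M) (S : Finset (Fin d → ℕ)) (i : ℕ) : Submodule R M :=
  aI x ^ (i + 1) • (⊤ : Submodule R M) ⊔ T ⊔ Ideal.span (xp x '' S) • (⊤ : Submodule R M)

/-- The exponents of the same degree after `α`. -/
noncomputable def G (α : Fin d → ℕ) : Finset (Fin d → ℕ) :=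
  letI := Classical.decPred fun β : Fin d → ℕ => toLex α < toLex β
  (D d (∑ j, α j)).filter fun β => toLex α < toLex β

theorem mem_G {α β : Fin d → ℕ} : β ∈ G α ↔ ∑ j, β j = ∑ j, α j ∧ toLex α < toLex β := by
  simp [G]

/-- The elements whose multiple by `x ^ α` is of higher order. -/
noncomputable def V (T : Submodule R M) (α : Fin d → ℕ) : Submodule R M :=
  (W x T (G α) (∑ j, α j)).comap (LinearMap.lsmul R M (xp x α))

/-- The value of the staircase. -/
noncomputable def g (T : Submodule R M) (α : Fin d → ℕ) : ℕ := CommAlgDim.len R (M ⧸ V x T α)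

theorem W_mono_right {T : Submodule R M} {S S' : Finset (Fin d → ℕ)} (h : S ⊆ S') (i : ℕ) :
    W x T S i ≤ W x T S' i :=
  sup_le_sup_left (Submodule.smul_mono_left (Ideal.span_mono (Set.image_mono (coe_subset.2 h)))) _

theorem aI_smul_le_V (T : Submodule R M) (α : Fin d → ℕ) : aI x • (⊤ : Submodule R M) ≤ V x T α := by
  rw [Submodule.smul_le]
  intro r hr v _
  show xp x α • r • v ∈ W x T (G α) (∑ j, α j)
  rw [smul_smul]
  refine Submodule.mem_sup_left (Submodule.mem_sup_left (Submodule.smul_mem_smul ?_ Submodule.mem_top))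
  rw [pow_succ]
  exact Ideal.mul_mem_mul (xp_mem x α) hr

theorem V_mono_left {T T' : Submodule R M} (h : T ≤ T') (α : Fin d → ℕ) : V x T α ≤ V x T' α :=
  Submodule.comap_mono (sup_le_sup_right (sup_le_sup_left h _) _)

theorem V_le_add (α γ : Fin d → ℕ) : V x (⊥ : Submodule R M) α ≤ V x (⊥ : Submodule R M) (α + γ) := by
  intro v hv
  have hv' : xp x α • v ∈ W x (⊥ : Submodule R M) (G α) (∑ j, α j) := hv
  show xp x (α + γ) • v ∈ W x (⊥ : Submodule R M) _ _
  rw [xp_add, mul_comm, mul_smul]
  revert hv'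
  generalize xp x α • v = w
  intro hw
  have hle : (W x (⊥ : Submodule R M) (G α) (∑ j, α j)).map (LinearMap.lsmul R M (xp x γ)) ≤
      W x (⊥ : Submodule R M) (G (α + γ)) (∑ j, (α + γ) j) := by
    simp only [W, sup_bot_eq, Submodule.map_sup, Submodule.map_smul'']
    refine sup_le_sup ?_ ?_
    · rw [Submodule.smul_le]
      rintro r hr _ ⟨z, -, rfl⟩
      show r • xp x γ • z ∈ _
      rw [smul_smul]
      refine Submodule.smul_mem_smul ?_ trivial
      rw [show ∑ j, (α + γ) j + 1 = (∑ j, α j + 1) + ∑ j, γ j by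
        simp [Finset.sum_add_distrib]; ring, pow_add]
      exact Ideal.mul_mem_mul hr (xp_mem x γ)
    · rw [Submodule.smul_le]
      rintro r hr _ ⟨z, -, rfl⟩
      show r • xp x γ • z ∈ _
      rw [smul_smul, mul_comm]
      refine Submodule.smul_mem_smul ?_ trivial
      induction hr using Submodule.span_induction with
      | mem r hr =>
        obtain ⟨β, hβ, rfl⟩ := hr
        obtain ⟨h1, l, h2, h3⟩ := mem_G.1 hβ
        refine Ideal.subset_span ⟨β + γ, mem_G.2 ⟨by simp [Finset.sum_add_distrib, h1],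
          l, fun j hj => ?_, ?_⟩, by rw [xp_add, mul_comm]⟩
        · show α j + γ j = β j + γ j
          rw [show α j = β j from h2 j hj]
        · show α l + γ l < β l + γ l
          exact Nat.add_lt_add_right h3 _
      | zero => rw [mul_zero]; exact zero_mem _
      | add a b _ _ ha hb => rw [mul_add]; exact add_mem ha hb
      | smul t a _ ha => rw [smul_eq_mul, mul_left_comm]; exact Ideal.mul_mem_left _ _ ha
  exact hle ⟨w, hw, rfl⟩

theorem V_eq_top {T : Submodule R M} {α : Fin d → ℕ} (h : ∀ v : M, xp x α • v ∈ T) : V x T α = ⊤ :=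
  eq_top_iff.2 fun v _ => Submodule.mem_sup_left (Submodule.mem_sup_right (h v))

variable [IsNoetherianRing R] [Module.Finite R M]
  (h1 : Module.length R (M ⧸ aI x • (⊤ : Submodule R M)) ≠ ⊤)

include h1 in
theorem len_ne_top {N : Submodule R M} {m : ℕ} (h : aI x ^ m • (⊤ : Submodule R M) ≤ N) :
    Module.length R (M ⧸ N) ≠ ⊤ :=
  ne_top_of_le_ne_top (CommAlgDim.length_quotient_ne_top h1 m)
    (Module.length_le_of_surjective _ (Submodule.factor_surjective h))

include h1 in
theorem g_mono {T T' : Submodule R M} (h : T ≤ T') (α : Fin d → ℕ) : g x T' α ≤ g x T α :=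
  CommAlgDim.len_le_of_surjective (len_ne_top x h1 (m := 1) (by rw [pow_one]; exact aI_smul_le_V x T α))
    (Submodule.factor (V_mono_left x h α)) (Submodule.factor_surjective _)

include h1 in
theorem g_le (T : Submodule R M) (α : Fin d → ℕ) :
    g x T α ≤ CommAlgDim.len R (M ⧸ aI x • (⊤ : Submodule R M)) :=
  CommAlgDim.len_le_of_surjective h1 (Submodule.factor (aI_smul_le_V x T α)) (Submodule.factor_surjective _)

theorem g_eq_zero {T : Submodule R M} {α : Fin d → ℕ} (h : ∀ v : M, xp x α • v ∈ T) : g x T α = 0 := by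
  have : Subsingleton (M ⧸ V x T α) := Submodule.Quotient.subsingleton_iff.2 (V_eq_top x h)
  exact CommAlgDim.len_eq_zero

include h1 in
theorem len_degree_step (T : Submodule R M) (i : ℕ) :
    CommAlgDim.len R (M ⧸ (aI x ^ (i + 1) • (⊤ : Submodule R M) ⊔ T)) =
      CommAlgDim.len R (M ⧸ (aI x ^ i • (⊤ : Submodule R M) ⊔ T)) + ∑ α ∈ D d i, g x T α := by
  classical
  suffices key : ∀ s : Finset (Fin d → ℕ), s ⊆ D d i → (∀ α ∈ s, ∀ β ∈ D d i, toLex α < toLex β → β ∈ s) →
      CommAlgDim.len R (M ⧸ W x T ∅ i) = CommAlgDim.len R (M ⧸ W x T s i) + ∑ α ∈ s, g x T α by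
    have h := key (D d i) subset_rfl fun _ _ β hβ _ => hβ
    have e1 : W x T ∅ i = aI x ^ (i + 1) • (⊤ : Submodule R M) ⊔ T := by simp [W]
    have e2 : W x T (D d i) i = aI x ^ i • (⊤ : Submodule R M) ⊔ T := by
      rw [W, ← aI_pow, sup_assoc, sup_comm T, ← sup_assoc]
      congr 1
      exact sup_eq_right.2 (Submodule.smul_mono_left (Ideal.pow_le_pow_right i.le_succ))
    rwa [e1, e2] at h
  intro s
  induction s using Finset.induction_on_min_value (fun α : Fin d → ℕ => toLex α) with
  | empty => intro _ _; simp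
  | insert a s has hmin ih =>
    intro hsub hup
    have hlt : ∀ β ∈ s, toLex a < toLex β := fun β hβ => lt_of_le_of_ne (hmin β hβ)
      fun e => has ((toLex.injective e) ▸ hβ)
    have hsub' : s ⊆ D d i := (subset_insert _ _).trans hsub
    have hup' : ∀ α ∈ s, ∀ β ∈ D d i, toLex α < toLex β → β ∈ s := fun α hα β hβ hαβ =>
      (mem_insert.1 (hup α (mem_insert_of_mem hα) β hβ hαβ)).resolve_left
        fun e => (lt_irrefl _) ((hlt α hα).trans (e ▸ hαβ))
    have hi : ∑ j, a j = i := (mem_piAntidiag.1 (hsub (mem_insert_self a s))).1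
    have hG : G a = s := Finset.ext fun β => by
      rw [mem_G, hi]
      refine ⟨fun h => (mem_insert.1 (hup a (mem_insert_self a s) β (by simp [h.1]) h.2)).resolve_left
        fun e => lt_irrefl _ (e ▸ h.2), fun h => ⟨(mem_piAntidiag.1 (hsub' h)).1, hlt β h⟩⟩
    have hle : W x T s i ≤ W x T (insert a s) i := W_mono_right x (subset_insert _ _) i
    rw [ih hsub' hup', MixedHSLib.quot_len_add hle (len_ne_top x h1 (le_sup_left.trans le_sup_left)),
      Finset.sum_insert has]
    suffices h : MixedHSLib.qlen (W x T (insert a s) i) (W x T s i) = g x T a by omega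
    let μ : M →ₗ[R] ↥(W x T (insert a s) i) ⧸ (W x T s i).comap (W x T (insert a s) i).subtype :=
      (Submodule.mkQ _) ∘ₗ (LinearMap.lsmul R M (xp x a)).codRestrict _ (fun v => by
        exact Submodule.mem_sup_right (Submodule.smul_mem_smul
          (Ideal.subset_span ⟨a, mem_insert_self a s, rfl⟩) trivial))
    have hμ : Function.Surjective μ := by
      intro z
      obtain ⟨⟨w, hw⟩, rfl⟩ := Submodule.mkQ_surjective _ z
      have hw' : w ∈ W x T s i ⊔ LinearMap.range (LinearMap.lsmul R M (xp x a)) := by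
        refine (sup_le ?_ ?_ : W x T (insert a s) i ≤ _) hw
        · exact le_sup_of_le_left le_sup_left
        · rw [Submodule.smul_le]
          intro r hr v _
          rw [coe_insert, Set.image_insert_eq, Ideal.mem_span_insert] at hr
          obtain ⟨t, r', hr', rfl⟩ := hr
          rw [add_smul, add_comm]
          exact Submodule.add_mem_sup (Submodule.mem_sup_right (Submodule.smul_mem_smul hr' trivial))
            ⟨t • v, by simp [smul_smul, mul_comm]⟩
      obtain ⟨u, hu, _, ⟨v, rfl⟩, huv⟩ := Submodule.mem_sup.1 hw'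
      refine ⟨v, ?_⟩
      show Submodule.Quotient.mk _ = Submodule.Quotient.mk _
      rw [Submodule.Quotient.eq]
      show xp x a • v - w ∈ W x T s i
      rw [← huv, show xp x a • v - (u + LinearMap.lsmul R M (xp x a) v) = -u by simp]
      exact neg_mem hu
    have hker : V x T a = LinearMap.ker μ := Submodule.ext fun v => by
      show xp x a • v ∈ W x T (G a) (∑ j, a j) ↔ _
      rw [hG, hi, LinearMap.mem_ker]
      constructor
      · intro h
        exact (Submodule.Quotient.mk_eq_zero ((W x T s i).comap (W x T (insert a s) i).subtype)).2 h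
      · intro h
        exact (Submodule.Quotient.mk_eq_zero ((W x T s i).comap (W x T (insert a s) i).subtype)).1 h
    exact (CommAlgDim.len_congr ((Submodule.quotEquivOfEq _ _ hker).trans
      (LinearMap.quotKerEquivOfSurjective μ hμ))).symm

/-- All exponents of degree `< m`. -/
abbrev Sim (d m : ℕ) : Finset (Fin d → ℕ) := (Finset.range m).biUnion (D d)

theorem mem_Sim {m : ℕ} {α : Fin d → ℕ} : α ∈ Sim d m ↔ ∑ j, α j < m := by simp

theorem sum_Sim {β : Type*} [AddCommMonoid β] (f : (Fin d → ℕ) → β) (m : ℕ) :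
    ∑ α ∈ Sim d m, f α = ∑ i ∈ Finset.range m, ∑ α ∈ D d i, f α := by
  refine Finset.sum_biUnion fun i _ j _ hij => Finset.disjoint_left.2 fun α hi hj => hij ?_
  rw [← (mem_piAntidiag.1 hi).1, ← (mem_piAntidiag.1 hj).1]

include h1 in
/-- The staircase computes the lengths. -/
theorem len_eq_sum (T : Submodule R M) (m : ℕ) :
    CommAlgDim.len R (M ⧸ (aI x ^ m • (⊤ : Submodule R M) ⊔ T)) = ∑ α ∈ Sim d m, g x T α := by
  rw [sum_Sim]
  induction m with
  | zero =>
    have : Subsingleton (M ⧸ (aI x ^ 0 • (⊤ : Submodule R M) ⊔ T)) := by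
      rw [Submodule.Quotient.subsingleton_iff, pow_zero, Ideal.one_eq_top, Submodule.top_smul, top_sup_eq]
    simp [CommAlgDim.len_eq_zero]
  | succ m ih => rw [len_degree_step x h1 T m, ih, Finset.sum_range_succ]

end LechLib
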